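import Mathlib
set_option linter.all false

/-!
# Sylow numbers of normal subgroups and quotients

`n_r(N) ∣ n_r(G)` and `n_r(G / N) ∣ n_r(G)` for a normal subgroup `N` of a finite group `G`,
invariance of `n_r` under isomorphism.
-/

set_option autoImplicit false

namespace Cfsg.Agent.H482.SylowNumbers

open Subgroup

/-- If `M ⊔ N = ⊤` with `N` normal, then `|G : M| = |N : M ∩ N|`. -/
theorem index_eq_relIndex_of_sup {G : Type*} [Group G] [Finite G] (M N : Subgroup G) [N.Normal]
    (h : M ⊔ N = ⊤) : M.index = M.relIndex N := by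
  have h1 : N.index = N.relIndex M := by
    rw [← relIndex_sup_right (H := M) (K := N), h, relIndex_top_right]
  have h2 : (M ⊓ N).relIndex M * M.index = (M ⊓ N).index := relIndex_mul_index inf_le_left
  have h3 : (M ⊓ N).relIndex N * N.index = (M ⊓ N).index := relIndex_mul_index inf_le_right
  rw [inf_relIndex_left] at h2
  rw [inf_relIndex_right] at h3
  rw [← h3, h1, mul_comm] at h2
  exact Nat.eq_of_mul_eq_mul_right (Nat.pos_of_ne_zero (h1 ▸ index_ne_zero_of_finite)) h2

theorem card_eq_index {G : Type*} [Group G] [Finite G] {r : ℕ} [Fact r.Prime] (P : Sylow r G) :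
    Nat.card (Sylow r G) = (normalizer ((P : Subgroup G) : Set G)).index :=
  P.card_eq_index_normalizer

/-- The number of Sylow subgroups of a normal subgroup divides that of the group. -/
theorem card_sylow_normal_dvd {G : Type*} [Group G] [Finite G] (r : ℕ) [Fact r.Prime]
    (N : Subgroup G) [hN : N.Normal] : Nat.card (Sylow r N) ∣ Nat.card (Sylow r G) := by
  obtain ⟨Q⟩ : Nonempty (Sylow r N) := inferInstance
  obtain ⟨P, hP⟩ := Q.exists_comap_subtype_eq
  have hmap : (Q : Subgroup N).map N.subtype = (P : Subgroup G) ⊓ N := by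
    rw [← hP]
    exact Subgroup.subgroupOf_map_subtype _ _
  have hle : normalizer ((P : Subgroup G) : Set G) ≤
      normalizer (((Q : Subgroup N).map N.subtype : Subgroup G) : Set G) := by
    rw [hmap]
    intro g hg
    rw [mem_normalizer_iff] at hg ⊢
    intro x
    rw [mem_inf, mem_inf]
    exact and_congr (hg x) ⟨fun hx => hN.conj_mem x hx g, fun hx => by
      have := hN.conj_mem _ hx g⁻¹
      simpa [mul_assoc] using this⟩
  have h1 := Subgroup.index_dvd_of_le hle
  have h2 := index_eq_relIndex_of_sup _ N Q.normalizer_sup_eq_top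
  have h3 : (normalizer (((Q : Subgroup N).map N.subtype : Subgroup G) : Set G)).relIndex N =
      (normalizer ((Q : Subgroup N) : Set N)).index := by
    rw [Subgroup.relIndex, subgroupOf_normalizer_eq (map_subtype_le _)]
    congr 2
    exact congrArg _ (Subgroup.comap_map_eq_self_of_injective N.subtype_injective _)
  rw [card_eq_index P, card_eq_index Q, ← h3, ← h2]
  exact h1

/-- The number of Sylow subgroups of a quotient (of the image of a surjection) divides that of the
group. -/
theorem card_sylow_dvd_of_surjective {G H : Type*} [Group G] [Finite G] [Group H] (r : ℕ)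
    [Fact r.Prime] (f : G →* H) (hf : Function.Surjective f) :
    Nat.card (Sylow r H) ∣ Nat.card (Sylow r G) := by
  have : Finite H := Finite.of_surjective f hf
  obtain ⟨P⟩ : Nonempty (Sylow r G) := inferInstance
  rw [card_eq_index P, card_eq_index (P.mapSurjective hf),
    ← Subgroup.index_comap_of_surjective _ hf]
  apply Subgroup.index_dvd_of_le
  intro g hg
  rw [mem_comap, Sylow.coe_mapSurjective]
  rw [mem_normalizer_iff] at hg ⊢
  intro y
  constructor
  · rintro ⟨x, hx, rfl⟩
    exact ⟨g * x * g⁻¹, (hg x).1 hx, by simp⟩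
  · rintro ⟨x, hx, hxy⟩
    have hx' : g * (g⁻¹ * x * g) * g⁻¹ ∈ (P : Subgroup G) := by
      have : g * (g⁻¹ * x * g) * g⁻¹ = x := by group
      rwa [this]
    refine ⟨g⁻¹ * x * g, (hg _).2 hx', ?_⟩
    rw [map_mul, map_mul, hxy]
    simp [mul_assoc]

theorem card_sylow_quotient_dvd {G : Type*} [Group G] [Finite G] (r : ℕ) [Fact r.Prime]
    (N : Subgroup G) [N.Normal] : Nat.card (Sylow r (G ⧸ N)) ∣ Nat.card (Sylow r G) :=
  card_sylow_dvd_of_surjective r (QuotientGroup.mk' N) (QuotientGroup.mk'_surjective N)

theorem card_sylow_congr {G H : Type*} [Group G] [Finite G] [Group H] (r : ℕ)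
    [Fact r.Prime] (e : G ≃* H) : Nat.card (Sylow r G) = Nat.card (Sylow r H) := by
  have : Finite H := Finite.of_equiv G e.toEquiv
  exact Nat.dvd_antisymm (card_sylow_dvd_of_surjective r e.symm.toMonoidHom e.symm.surjective)
    (card_sylow_dvd_of_surjective r e.toMonoidHom e.surjective)

end Cfsg.Agent.H482.SylowNumbers
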